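import Mathlib

/-!
Cokernels of maps with an invertible component.
-/

set_option autoImplicit false

universe v u v' u'

open CategoryTheory CategoryTheory.Limits

namespace JumpBundle

variable {C : Type u} [Category.{v} C] [Abelian C] {D : Type u'} [Category.{v'} D] [Abelian D]

/-- If one component of `g : A ⟶ B` becomes invertible, its cokernel becomes the complementary summand. -/
theorem isIso_map_complement (F : C ⥤ D) [F.Additive] {A B B₁ B₂ : C} (g : A ⟶ B) (p : B ⟶ B₁) (s : B ⟶ B₂)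
    (i : B₁ ⟶ B) (j : B₂ ⟶ B) (hjs : j ≫ s = 𝟙 B₂) (hjp : j ≫ p = 0) (htot : p ≫ i + s ≫ j = 𝟙 B)
    [PreservesColimit (parallelPair g 0) F] [IsIso (F.map (g ≫ p))] :
    IsIso (F.map (j ≫ cokernel.π g)) := by
  have hc := isColimitCoforkMapOfIsColimit' F (cokernel.condition g) (cokernelIsCokernel g)
  let r : F.obj B ⟶ F.obj B₂ := F.map s - F.map p ≫ inv (F.map (g ≫ p)) ≫ F.map (g ≫ s)
  have hr : F.map g ≫ r = 0 := by
    rw [Preadditive.comp_sub, ← Category.assoc, ← F.map_comp, ← F.map_comp, IsIso.hom_inv_id_assoc, sub_self]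
  let c := hc.desc (CokernelCofork.ofπ r hr)
  have hπc : F.map (cokernel.π g) ≫ c = r := hc.fac (CokernelCofork.ofπ r hr) WalkingParallelPair.one
  have h1 : F.map (j ≫ cokernel.π g) ≫ c = 𝟙 _ := by
    rw [F.map_comp, Category.assoc, hπc, Preadditive.comp_sub, ← Category.assoc (F.map j) (F.map p),
      ← F.map_comp j p, hjp, F.map_zero, zero_comp, sub_zero, ← F.map_comp, hjs, F.map_id]
  refine ⟨⟨c, h1, Cofork.IsColimit.hom_ext hc ?_⟩⟩
  change F.map (cokernel.π g) ≫ c ≫ F.map (j ≫ cokernel.π g) = F.map (cokernel.π g) ≫ 𝟙 _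
  rw [Category.comp_id, ← Category.assoc, hπc, Preadditive.sub_comp]
  have h0 : F.map (g ≫ p) ≫ F.map (i ≫ cokernel.π g) + F.map (g ≫ s) ≫ F.map (j ≫ cokernel.π g) = 0 := by
    rw [← F.map_comp, ← F.map_comp, ← F.map_add]
    have : (g ≫ p) ≫ i ≫ cokernel.π g + (g ≫ s) ≫ j ≫ cokernel.π g = g ≫ cokernel.π g := by
      rw [show (g ≫ p) ≫ i ≫ cokernel.π g + (g ≫ s) ≫ j ≫ cokernel.π g =
        g ≫ (p ≫ i + s ≫ j) ≫ cokernel.π g by simp, htot, Category.id_comp]
    rw [this, cokernel.condition, F.map_zero]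
  have h2 : F.map (i ≫ cokernel.π g) =
      -(inv (F.map (g ≫ p)) ≫ F.map (g ≫ s) ≫ F.map (j ≫ cokernel.π g)) := by
    rw [← Preadditive.comp_neg, ← IsIso.inv_hom_id_assoc (F.map (g ≫ p)) (F.map (i ≫ cokernel.π g)),
      eq_neg_of_add_eq_zero_left h0]
  calc F.map s ≫ F.map (j ≫ cokernel.π g) -
        (F.map p ≫ inv (F.map (g ≫ p)) ≫ F.map (g ≫ s)) ≫ F.map (j ≫ cokernel.π g)
      = F.map s ≫ F.map (j ≫ cokernel.π g) + F.map p ≫ F.map (i ≫ cokernel.π g) := by
        rw [h2, Preadditive.comp_neg, sub_eq_add_neg]; simp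
    _ = F.map ((p ≫ i + s ≫ j) ≫ cokernel.π g) := by
        rw [Preadditive.add_comp, F.map_add, add_comm]; simp
    _ = F.map (cokernel.π g) := by rw [htot, Category.id_comp]

/-- The cokernel of `(0, h)`. -/
theorem nonempty_cokernel_lift_zero {A B₁ B₂ : C} (h : A ⟶ B₂) :
    Nonempty (cokernel (biprod.lift (0 : A ⟶ B₁) h) ≅ B₁ ⊞ cokernel h) := by
  refine ⟨⟨cokernel.desc _ (biprod.map (𝟙 _) (cokernel.π h)) ?_,
    biprod.desc (biprod.inl ≫ cokernel.π _) (cokernel.desc h (biprod.inr ≫ cokernel.π _) ?_), ?_, ?_⟩⟩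
  · ext <;> simp
  · have : biprod.lift (0 : A ⟶ B₁) h = h ≫ biprod.inr := by ext <;> simp
    rw [← Category.assoc, ← this, cokernel.condition]
  · ext <;> simp
  · ext <;> simp

end JumpBundle
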