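import Groth.Agent.GrT.TwistMul
import Groth.Agent.GrT.TildeMap

/-!
Multiplication by a form between twists.
-/

set_option autoImplicit false
set_option backward.isDefEq.respectTransparency false

universe u

open CategoryTheory CategoryTheory.Limits TopologicalSpace AlgebraicGeometry Opposite
open Groth.Agent.QC (res resO res_res res_self section_eq_of_locally app_res res_smul)

noncomputable section

namespace JumpBundle

variable {R A : Type u} [CommRing R] [CommRing A] [Algebra R A] (𝒜 : ℕ → Submodule R A) [GradedAlgebra 𝒜]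

theorem shift_mul {m : ℕ} {g : A} (hg : g ∈ 𝒜 m) {n n' : ℤ} (h : n + m = n') :
    GrT.Shift 𝒜 𝒜 (LinearMap.mulLeft A g) n n' := fun i j hij a ha =>
  Or.inr ⟨m + i, by push_cast; omega, SetLike.mul_mem_graded hg ha⟩

/-- Multiplication by the form `g`. -/
def mulForm {m : ℕ} {g : A} (hg : g ∈ 𝒜 m) {n n' : ℤ} (h : n + m = n') :
    Twist.twist 𝒜 n ⟶ Twist.twist 𝒜 n' :=
  GrT.mapTilde 𝒜 (shift_mul 𝒜 hg h)

theorem mulForm_comp {m m' : ℕ} {g g' : A} (hg : g ∈ 𝒜 m) (hg' : g' ∈ 𝒜 m') {n n' n'' : ℤ}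
    (h : n + m = n') (h' : n' + m' = n'') (h'' : n + ((m' + m : ℕ) : ℤ) = n'') :
    mulForm 𝒜 hg h ≫ mulForm 𝒜 hg' h' = mulForm 𝒜 (SetLike.mul_mem_graded hg' hg) h'' := by
  refine (GrT.mapTilde_comp 𝒜 _ _ ?_).trans ?_
  · have e : (LinearMap.mulLeft A g' ∘ₗ LinearMap.mulLeft A g) = LinearMap.mulLeft A (g' * g) :=
      LinearMap.ext fun a => (mul_assoc g' g a).symm
    rw [e]; exact shift_mul 𝒜 (SetLike.mul_mem_graded hg' hg) h''
  · refine Scheme.Modules.hom_ext _ _ fun U => ?_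
    ext s
    refine GrT.pt_ext 𝒜 _ fun y => ?_
    rw [mulForm, GrT.pt_mapTilde, GrT.pt_mapTilde]
    exact congrArg (fun f => GrT.mapLoc 𝒜 f y.1 _) (LinearMap.ext fun a => (mul_assoc g' g a).symm)

/-- Multiplication by `g` is bijective where `g` does not vanish. -/
theorem bijective_mulForm {m : ℕ} {g : A} (hg : g ∈ 𝒜 m) {n n' : ℤ} (h : n + m = n') {n₀ : ℤ} (hn : n = n₀)
    (hgens : GrT.HasFracGens 𝒜 n₀) (V : (Proj 𝒜).Opens) (hV : V ≤ Proj.basicOpen 𝒜 g) :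
    Function.Bijective ((mulForm 𝒜 hg h).app V) := by
  subst hn
  have key : ∀ x ∈ V, ∃ W : (Proj 𝒜).Opens, x ∈ W ∧ ∀ V' : (Proj 𝒜).Opens, V' ≤ W → V' ≤ V →
      Function.Bijective ((mulForm 𝒜 hg h).app V') := by
    intro x hxV
    obtain ⟨i, j, p, q, hp, hq, hij, W, hW, hW', hx⟩ := hgens x
    refine ⟨W, hx, fun V' hVW hVV => ?_⟩
    have hgp : V' ≤ Proj.basicOpen 𝒜 (g * p) := fun y hy => (ProjectiveSpectrum.mem_basicOpen 𝒜 _ y).mpr
      (GrT.not_mem_mul 𝒜 ((ProjectiveSpectrum.mem_basicOpen 𝒜 g y).mp (hV (hVV hy)))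
        ((ProjectiveSpectrum.mem_basicOpen 𝒜 p y).mp (hW (hVW hy))))
    have hij' : ((m + i : ℕ) : ℤ) = j + n' := by push_cast; omega
    have b1 := GrT.twistGen_bijective 𝒜 hp hq hij (hVW.trans hW) (hVW.trans hW') V' le_rfl
    have b2 := GrT.twistGen_bijective 𝒜 (SetLike.mul_mem_graded hg hp) hq hij' hgp (hVW.trans hW') V' le_rfl
    refine (Function.Bijective.of_comp_iff _ b1).mp ?_
    refine Eq.mpr (congrArg _ (funext fun c => ?_)) b2
    refine GrT.pt_ext 𝒜 𝒜 fun y => ?_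
    simp only [Function.comp_apply]
    exact (GrT.pt_mapTilde 𝒜 (shift_mul 𝒜 hg h) _ y).trans
      ((LinearMap.map_smul (GrT.mapLoc 𝒜 (LinearMap.mulLeft A g) y.1) _ _).trans
        (congrArg _ (GrT.mapLoc_fr 𝒜 _ y.1 p _)))
  constructor
  · refine (injective_iff_map_eq_zero _).mpr fun s hs => section_eq_of_locally fun x hx => ?_
    obtain ⟨W, hxW, hW⟩ := key x hx
    refine ⟨V ⊓ W, inf_le_left, ⟨hx, hxW⟩, (hW _ inf_le_right inf_le_left).1 ?_⟩
    rw [← app_res, hs, map_zero, map_zero, map_zero]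
  · intro t
    choose W hxW hW using key
    choose s hs using fun x : V => (hW x.1 x.2 (V ⊓ W x.1 x.2) inf_le_right inf_le_left).2
      (res _ inf_le_left t)
    obtain ⟨a, ha, -⟩ := TopCat.Sheaf.existsUnique_gluing' (Groth.Agent.QC.abSheaf (Twist.twist 𝒜 n))
      (fun x : V => V ⊓ W x.1 x.2) V (fun x => homOfLE inf_le_left)
      (fun x hx => Opens.mem_iSup.mpr ⟨⟨x, hx⟩, hx, hxW x hx⟩) s (fun x y => by
        change res _ (inf_le_left : _ ⊓ _ ≤ V ⊓ W x.1 x.2) (s x) = res _ inf_le_right (s y)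
        apply (hW x.1 x.2 _ (inf_le_left.trans inf_le_right) (inf_le_left.trans inf_le_left)).1
        rw [← app_res, ← app_res, hs, hs, res_res, res_res])
    refine ⟨a, section_eq_of_locally fun x hx => ⟨V ⊓ W x hx, inf_le_left, ⟨hx, hxW x hx⟩, ?_⟩⟩
    rw [app_res, ← hs ⟨x, hx⟩]
    exact congrArg _ (ha ⟨x, hx⟩)

theorem isIso_restrict_mulForm {m : ℕ} {g : A} (hg : g ∈ 𝒜 m) {n n' : ℤ} (h : n + m = n')
    (hgens : GrT.HasFracGens 𝒜 n) {Y : Scheme.{u}} (f : Y ⟶ Proj 𝒜) [IsOpenImmersion f]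
    (hf : f.opensRange ≤ Proj.basicOpen 𝒜 g) :
    IsIso ((Scheme.Modules.restrictFunctor f).map (mulForm 𝒜 hg h)) := by
  rw [Scheme.Modules.Hom.isIso_iff_isIso_app]
  intro W
  rw [ConcreteCategory.isIso_iff_bijective]
  exact bijective_mulForm 𝒜 hg h rfl hgens _
    ((f.image_le_opensRange W).trans hf)

end JumpBundle
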