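import Groth.Agent.JumpBundle.Abstract
import Groth.Agent.JumpBundle.Twist
import Groth.Agent.PBundle.Free
import Groth.Agent.PBundle.FrameTools
import Groth.Agent.W7Strat.Frame
import Groth.Agent.CohQC.QuasiAffine
import Groth.Agent.CohQC.Affineness
import Groth.Agent.QC.Closure
import Groth.Agent.ThetaLib.Scalar
import Groth.Agent.ProjMor.Over
import Groth.Agent.P1Split.Torsion
import Groth.Prelude.Def_FlatMod2

/-!
A rank two bundle on `P^1_{k[t]}` jumping at `t = 0`.
-/

set_option autoImplicit false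
set_option backward.isDefEq.respectTransparency false

universe u

open CategoryTheory CategoryTheory.Limits TopologicalSpace AlgebraicGeometry Opposite
open Groth.Agent Groth.Agent.ThetaLib Groth.Agent.LBDesc
open Groth.Agent.QC (res resO res_res res_self)

noncomputable section

namespace JumpBundle


/-- The twist. -/
abbrev O (n : ℤ) : (CohB1.ProjSpace 1 (ULift.{u} ℤ)).Modules := Twist.twistProjSpace 1 (ULift.{u} ℤ) n

theorem X_mem (l : Fin 2) : (MvPolynomial.X l : MvPolynomial (Fin 2) (ULift.{u} ℤ)) ∈ (CohB1.polyGrading 1 (ULift.{u} ℤ)) 1 :=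
  MvPolynomial.isHomogeneous_X _ l

theorem pow_mem (l : Fin 2) (m : ℕ) : (MvPolynomial.X l : MvPolynomial (Fin 2) (ULift.{u} ℤ)) ^ m ∈ (CohB1.polyGrading 1 (ULift.{u} ℤ)) m := by
  simpa using SetLike.pow_mem_graded m (X_mem.{u} l)

theorem cover (x : ProjectiveSpectrum (CohB1.polyGrading 1 (ULift.{u} ℤ))) : ∃ l : Fin 2, MvPolynomial.X l ∉ x.asHomogeneousIdeal := by
  obtain ⟨l, hl⟩ : ∃ l : Fin 2, x ∈ Proj.basicOpen (CohB1.polyGrading 1 (ULift.{u} ℤ)) (MvPolynomial.X l) := by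
    have h := Proj.iSup_basicOpen_eq_top' (CohB1.polyGrading 1 (ULift.{u} ℤ)) (fun l : Fin 2 => (MvPolynomial.X l : MvPolynomial (Fin 2) (ULift.{u} ℤ)))
      (fun l => ⟨1, X_mem l⟩) (by
        rw [eq_top_iff]
        rintro p -
        induction p using MvPolynomial.induction_on with
        | C r =>
          exact Subalgebra.algebraMap_mem _ (⟨MvPolynomial.C r, MvPolynomial.isHomogeneous_C _ r⟩ : (CohB1.polyGrading 1 (ULift.{u} ℤ)) 0)
        | add p q hp hq => exact add_mem hp hq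
        | mul_X p j hp => exact mul_mem hp (Algebra.subset_adjoin ⟨j, rfl⟩))
    exact Opens.mem_iSup.mp (h.ge trivial)
  exact ⟨l, (ProjectiveSpectrum.mem_basicOpen _ _ _).mp hl⟩

theorem hgens (n : ℤ) : GrT.HasFracGens (CohB1.polyGrading 1 (ULift.{u} ℤ)) n := by
  have := GrT.hasFracGens_of_cover (𝒜 := (CohB1.polyGrading 1 (ULift.{u} ℤ))) (l := 1)
    (fun x => let ⟨l, hl⟩ := cover x; ⟨_, X_mem l, hl⟩) n
  simpa using this

variable (i : ℕ)

def u : O.{u} (-((i : ℤ) + 1)) ⟶ O (i : ℤ) := mulForm (CohB1.polyGrading 1 (ULift.{u} ℤ)) (pow_mem 0 (2 * i + 1)) (by push_cast; ring)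
def v : O.{u} (-((i : ℤ) + 1)) ⟶ O (-(i : ℤ)) := mulForm (CohB1.polyGrading 1 (ULift.{u} ℤ)) (pow_mem 1 1) (by push_cast; ring)
def u' : O.{u} (-(i : ℤ)) ⟶ O ((i : ℤ) + 1) := mulForm (CohB1.polyGrading 1 (ULift.{u} ℤ)) (pow_mem 0 (2 * i + 1)) (by push_cast; ring)
def v' : O.{u} (i : ℤ) ⟶ O ((i : ℤ) + 1) := mulForm (CohB1.polyGrading 1 (ULift.{u} ℤ)) (pow_mem 1 1) (by push_cast; ring)

theorem comp_eq : u.{u} i ≫ v' i = v i ≫ u' i := by
  rw [u, v', v, u', mulForm_comp (CohB1.polyGrading 1 (ULift.{u} ℤ)) _ _ _ _ (by push_cast; ring), mulForm_comp (CohB1.polyGrading 1 (ULift.{u} ℤ)) _ _ _ _ (by push_cast; ring)]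
  refine Scheme.Modules.hom_ext _ _ fun U => ?_
  ext s
  refine GrT.pt_ext (CohB1.polyGrading 1 (ULift.{u} ℤ)) _ fun y => ?_
  rw [mulForm, mulForm]
  exact congrArg (fun f => GrT.mapLoc (CohB1.polyGrading 1 (ULift.{u} ℤ)) f y.1 _) (LinearMap.ext fun a => by
    simp only [LinearMap.mulLeft_apply]; ring)

theorem isIso_restrict (l : Fin 2) :
    (l = 0 → IsIso ((Scheme.Modules.restrictFunctor (Proj.basicOpen (CohB1.polyGrading 1 (ULift.{u} ℤ)) (MvPolynomial.X l)).ι).map (u.{u} i)) ∧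
      IsIso ((Scheme.Modules.restrictFunctor (Proj.basicOpen (CohB1.polyGrading 1 (ULift.{u} ℤ)) (MvPolynomial.X l)).ι).map (u'.{u} i))) ∧
    (l = 1 → IsIso ((Scheme.Modules.restrictFunctor (Proj.basicOpen (CohB1.polyGrading 1 (ULift.{u} ℤ)) (MvPolynomial.X l)).ι).map (v.{u} i)) ∧
      IsIso ((Scheme.Modules.restrictFunctor (Proj.basicOpen (CohB1.polyGrading 1 (ULift.{u} ℤ)) (MvPolynomial.X l)).ι).map (v'.{u} i))) := by
  have h : ∀ m : ℕ, 0 < m → ((Proj.basicOpen (CohB1.polyGrading 1 (ULift.{u} ℤ)) (MvPolynomial.X l)).ι).opensRange ≤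
      Proj.basicOpen (CohB1.polyGrading 1 (ULift.{u} ℤ)) ((MvPolynomial.X l : MvPolynomial (Fin 2) (ULift.{u} ℤ)) ^ m) := fun m hm => by
    rw [Scheme.Opens.opensRange_ι, Proj.basicOpen_pow _ _ _ hm]
  constructor <;> rintro rfl <;> exact ⟨isIso_restrict_mulForm _ _ _ (hgens _) _ (h _ (by omega)),
    isIso_restrict_mulForm _ _ _ (hgens _) _ (h _ (by omega))⟩

def h : O.{u} (-((i : ℤ) + 1)) ⟶ O (i : ℤ) ⊞ O (-(i : ℤ)) := biprod.lift (u i) (v i)

/-- `O(i+1)` is the cokernel of `(X^{2i+1}, Y)`. -/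
theorem nonempty_cokernel_h : Nonempty (cokernel (h.{u} i) ≅ O ((i : ℤ) + 1)) := by
  let ψ : cokernel (h.{u} i) ⟶ O ((i : ℤ) + 1) := cokernel.desc _ (biprod.desc (v' i) (-(u' i))) (by
    rw [h, biprod.lift_desc, Preadditive.comp_neg, comp_eq]; exact add_neg_cancel _)
  suffices IsIso ψ from ⟨asIso ψ⟩
  refine Groth.Agent.QC.isIso_of_restrict_cover (fun l : Fin 2 => (Proj.basicOpen (CohB1.polyGrading 1 (ULift.{u} ℤ)) (MvPolynomial.X l)).ι)
    (fun x => ?_) ψ fun l => ?_
  · obtain ⟨l, hl⟩ := cover x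
    exact ⟨l, by rw [Scheme.Opens.range_ι]; exact (ProjectiveSpectrum.mem_basicOpen _ _ _).mpr hl⟩
  let G := Scheme.Modules.restrictFunctor (Proj.basicOpen (CohB1.polyGrading 1 (ULift.{u} ℤ)) (MvPolynomial.X l)).ι
  obtain ⟨h0, h1⟩ := isIso_restrict.{u} i l
  rcases (show l = 0 ∨ l = 1 by omega) with hl | hl
  · obtain ⟨_, _⟩ := h0 hl
    haveI : IsIso (G.map (h i ≫ biprod.fst)) := by rw [h, biprod.lift_fst]; assumption
    haveI := isIso_map_complement G (h i) biprod.fst biprod.snd biprod.inl biprod.inr biprod.inr_snd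
      biprod.inr_fst biprod.total
    haveI : IsIso (G.map (biprod.inr ≫ cokernel.π (h i)) ≫ G.map ψ) := by
      rw [← G.map_comp, Category.assoc, cokernel.π_desc, biprod.inr_desc, G.map_neg]
      exact ⟨⟨-inv (G.map (u' i)), by simp, by simp⟩⟩
    exact IsIso.of_isIso_comp_left (G.map (biprod.inr ≫ cokernel.π (h i))) _
  · obtain ⟨_, _⟩ := h1 hl
    haveI : IsIso (G.map (h i ≫ biprod.snd)) := by rw [h, biprod.lift_snd]; assumption
    haveI := isIso_map_complement G (h i) biprod.snd biprod.fst biprod.inr biprod.inl biprod.inl_fst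
      biprod.inl_snd ((add_comm _ _).trans biprod.total)
    haveI : IsIso (G.map (biprod.inl ≫ cokernel.π (h i)) ≫ G.map ψ) := by
      rw [← G.map_comp, Category.assoc, cokernel.π_desc, biprod.inl_desc]; assumption
    exact IsIso.of_isIso_comp_left (G.map (biprod.inl ≫ cokernel.π (h i))) _

variable (k : Type u) [Field k]

abbrev PT : Scheme.{u} := CohB1.ProjSpaceOver 1 (Spec (CommRingCat.of (Polynomial k)))
abbrev pt' : PT k ⟶ CohB1.ProjSpace 1 (ULift.{u} ℤ) := ProjMor.pz 1 _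

/-- The coordinate of the base. -/
def t : Γ(PT k, ⊤) := ProjUP.toGlobal (CohB1.ProjSpaceOver.toBase 1 _) (Polynomial.X : Polynomial k)

def g : (Scheme.Modules.pullback (pt' k)).obj (O (-((i : ℤ) + 1))) ⟶
    (Scheme.Modules.pullback (pt' k)).obj (O (-((i : ℤ) + 1))) ⊞
      (Scheme.Modules.pullback (pt' k)).obj (O (i : ℤ) ⊞ O (-(i : ℤ))) :=
  biprod.lift (smulMor _ (t k)) ((Scheme.Modules.pullback (pt' k)).map (h i))

/-- The bundle. -/
def F : (PT k).Modules := cokernel (g i k)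

theorem isQCoh_pull (M : (CohB1.ProjSpace 1 (ULift.{u} ℤ)).Modules) (hM : Coh.IsQCoh M) :
    Coh.IsQCoh ((Scheme.Modules.pullback (pt' k)).obj M) := Groth.Agent.QC.isQCoh_pullback _ hM

theorem isQCoh_O (n : ℤ) : Coh.IsQCoh (O.{u} n) :=
  TMul.isQCoh_of_isInvertible (GrT.isInvertible_twist_of_gens (hgens n))

theorem isQCoh_F : Coh.IsQCoh (F i k) :=
  Groth.Agent.QC.isQCoh_cokernel (isQCoh_pull k _ (isQCoh_O _))
    (CohQC.isQCoh_biprod (isQCoh_pull k _ (isQCoh_O _))
      (isQCoh_pull k _ (CohQC.isQCoh_biprod (isQCoh_O _) (isQCoh_O _)))) _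

/-- A frame from two generators. -/
theorem isFrame_of_pair {X : Scheme.{u}} {M L L' : X.Modules} (hM : Coh.IsQCoh M) (φ : L ⊞ L' ⟶ M)
    {W : X.Opens} (hW : IsAffineOpen W) (hφ : Function.Bijective (φ.app W)) {e : Γ(L, W)} {e' : Γ(L', W)}
    (he : TMul.IsGen e) (he' : TMul.IsGen e') :
    ∃ b : Fin 2 → Γ(M, W), TMul.IsFrame b := by
  let S := CohQC.biprodSections L L' W
  let b : Fin 2 → Γ(M, W) := ![φ.app W (S.symm (e, 0)), φ.app W (S.symm (0, e'))]
  refine ⟨b, PBundle.isFrame_of_bijective hM hW ?_⟩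
  have h1 : Function.Bijective fun a : Fin 2 → Γ(X, W) => ((a 0 • e, a 1 • e') : Γ(L, W) × Γ(L', W)) := by
    have b1 := he W le_rfl
    have b2 := he' W le_rfl
    simp only [res_self] at b1 b2
    exact (b1.prodMap b2).comp (piFinTwoEquiv fun _ => Γ(X, W)).bijective
  have h2 : (fun a : Fin 2 → Γ(X, W) => ∑ l, a l • b l) =
      φ.app W ∘ S.symm ∘ fun a : Fin 2 → Γ(X, W) => ((a 0 • e, a 1 • e') : Γ(L, W) × Γ(L', W)) := by
    funext a
    simp only [Fin.sum_univ_two, Function.comp_apply]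
    change a 0 • φ.app W (S.symm (e, 0)) + a 1 • φ.app W (S.symm (0, e')) = φ.app W (S.symm (a 0 • e, a 1 • e'))
    rw [← TMul.app_smul, ← TMul.app_smul, ← map_add, ← map_smul, ← map_smul, ← map_add]
    simp
  rw [h2]
  exact hφ.comp (S.symm.bijective.comp h1)

theorem isIso_pull_restrict {W : (PT k).Opens} {D : (CohB1.ProjSpace 1 (ULift.{u} ℤ)).Opens}
    (hWD : W ≤ (pt' k) ⁻¹ᵁ D) {A B : (CohB1.ProjSpace 1 (ULift.{u} ℤ)).Modules} (φ : A ⟶ B)
    (hφ : IsIso ((Scheme.Modules.restrictFunctor D.ι).map φ)) :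
    IsIso ((Scheme.Modules.restrictFunctor W.ι).map ((Scheme.Modules.pullback (pt' k)).map φ)) := by
  haveI : IsIso ((Scheme.Modules.pullback D.ι).map φ) :=
    (NatIso.isIso_map_iff (Scheme.Modules.restrictFunctorIsoPullback D.ι) φ).mp hφ
  have he : W.ι ≫ pt' k = ((PT k).homOfLE hWD ≫ (pt' k ∣_ D)) ≫ D.ι := by
    rw [Category.assoc, morphismRestrict_ι, ← Category.assoc, Scheme.homOfLE_ι]
  refine (NatIso.isIso_map_iff (Scheme.Modules.restrictFunctorIsoPullback W.ι) _).mpr ?_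
  change IsIso ((Scheme.Modules.pullback (pt' k) ⋙ Scheme.Modules.pullback W.ι).map φ)
  refine (NatIso.isIso_map_iff (Scheme.Modules.pullbackComp W.ι (pt' k) ≪≫
    Scheme.Modules.pullbackCongr he ≪≫ (Scheme.Modules.pullbackComp _ D.ι).symm) φ).mpr ?_
  rw [Functor.comp_map]
  infer_instance

theorem isFinLocFreeOfRank_F : FlatMod.IsFinLocFreeOfRank 2 (F i k) := by
  refine W7Strat.isFinLocFreeOfRank_of_frames fun x => ?_
  let f := Scheme.Modules.pullback (pt' k)
  obtain ⟨l, hl⟩ := cover ((pt' k) x)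
  let D := Proj.basicOpen (CohB1.polyGrading 1 (ULift.{u} ℤ)) (MvPolynomial.X l : MvPolynomial (Fin 2) (ULift.{u} ℤ))
  have hxD : x ∈ (pt' k) ⁻¹ᵁ D := (ProjectiveSpectrum.mem_basicOpen _ _ _).mpr hl
  obtain ⟨h0, h1⟩ := isIso_restrict.{u} i l
  have key : ∀ (c : ℤ) (j : f.obj (O (-((i : ℤ) + 1))) ⊞ f.obj (O c) ⟶
      f.obj (O (-((i : ℤ) + 1))) ⊞ f.obj (O (i : ℤ) ⊞ O (-(i : ℤ)))),
      (∀ W : (PT k).Opens, W ≤ (pt' k) ⁻¹ᵁ D →
        IsIso ((Scheme.Modules.restrictFunctor W.ι).map (j ≫ cokernel.π (g i k)))) →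
      ∃ (U : (PT k).Opens) (e : Fin 2 → Γ(F i k, U)), x ∈ U ∧ TMul.IsFrame e := by
    intro c j hj
    obtain ⟨W1, e, hx1, he⟩ := TMul.exists_isGen (PBundle.isInvertible_twistOver 1 (Spec (CommRingCat.of (Polynomial k))) (-((i : ℤ) + 1))) x
    obtain ⟨W2, e', hx2, he'⟩ := TMul.exists_isGen (PBundle.isInvertible_twistOver 1 (Spec (CommRingCat.of (Polynomial k))) c) x
    obtain ⟨W, hW, hxW, hWle⟩ := exists_isAffineOpen_mem_and_subset (x := x)
      (U := (pt' k) ⁻¹ᵁ D ⊓ W1 ⊓ W2) ⟨⟨hxD, hx1⟩, hx2⟩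
    haveI := hj W (fun y hy => (hWle hy).1.1)
    have hb : Function.Bijective ((j ≫ cokernel.π (g i k)).app W) := by
      obtain ⟨V, hV⟩ : ∃ V, W.ι ''ᵁ V = W := ⟨⊤, by rw [Scheme.Hom.image_top_eq_opensRange, Scheme.Opens.opensRange_ι]⟩
      have := ConcreteCategory.bijective_of_isIso
        (((Scheme.Modules.restrictFunctor W.ι).map (j ≫ cokernel.π (g i k))).app V)
      change Function.Bijective ((j ≫ cokernel.π (g i k)).app (W.ι ''ᵁ V)) at this
      rwa [hV] at this
    obtain ⟨b, hb'⟩ := isFrame_of_pair (isQCoh_F i k) _ hW hb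
      (he.res (fun y hy => (hWle hy).1.2)) (he'.res (fun y hy => (hWle hy).2))
    exact ⟨W, b, hxW, hb'⟩
  rcases (show l = 0 ∨ l = 1 by omega) with hl0 | hl0
  · refine key (-(i : ℤ)) (biprod.desc biprod.inl (f.map biprod.inr ≫ biprod.inr)) fun W hW => ?_
    have hu := isIso_pull_restrict k hW (u i) (h0 hl0).1
    haveI : IsIso ((Scheme.Modules.restrictFunctor W.ι).map (g i k ≫ biprod.snd ≫ f.map biprod.fst)) := by
      rw [g, biprod.lift_snd_assoc, ← f.map_comp, h, biprod.lift_fst]; exact hu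
    refine isIso_map_complement _ (g i k) (biprod.snd ≫ f.map biprod.fst)
      (biprod.lift biprod.fst (biprod.snd ≫ f.map biprod.snd)) (f.map biprod.inl ≫ biprod.inr) _ ?_ ?_ ?_
    · apply biprod.hom_ext' <;> apply biprod.hom_ext <;> simp [← f.map_comp, -Functor.map_comp]
      all_goals first
        | exact biprod.inl_fst
        | (erw [biprod.inl_snd_assoc]; simp)
        | (erw [biprod.inr_snd_assoc]; simp [← f.map_comp, -Functor.map_comp])
        | (erw [biprod.inr_fst]; simp)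
    · apply biprod.hom_ext' <;> simp [← f.map_comp, -Functor.map_comp]
      all_goals first
        | exact biprod.inl_fst
        | (erw [biprod.inl_snd_assoc]; simp)
        | (erw [biprod.inr_snd_assoc]; simp [← f.map_comp, -Functor.map_comp])
        | (erw [biprod.inr_fst]; simp)
    · have ht : f.map biprod.fst ≫ f.map biprod.inl + f.map biprod.snd ≫ f.map biprod.inr =
          𝟙 (f.obj (O.{u} (i : ℤ) ⊞ O (-(i : ℤ)))) := by
        rw [← f.map_comp, ← f.map_comp, ← f.map_add, biprod.total, f.map_id]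
      rw [biprod.lift_desc, Category.assoc, ← Category.assoc (f.map biprod.fst), Category.assoc biprod.snd,
        ← Category.assoc (f.map biprod.snd), add_left_comm, ← Preadditive.comp_add, ← Preadditive.add_comp, ht,
        Category.id_comp, biprod.total]
  · refine key (i : ℤ) (biprod.desc biprod.inl (f.map biprod.inl ≫ biprod.inr)) fun W hW => ?_
    have hv := isIso_pull_restrict k hW (v i) (h1 hl0).1
    haveI : IsIso ((Scheme.Modules.restrictFunctor W.ι).map (g i k ≫ biprod.snd ≫ f.map biprod.snd)) := by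
      rw [g, biprod.lift_snd_assoc, ← f.map_comp, h, biprod.lift_snd]; exact hv
    refine isIso_map_complement _ (g i k) (biprod.snd ≫ f.map biprod.snd)
      (biprod.lift biprod.fst (biprod.snd ≫ f.map biprod.fst)) (f.map biprod.inr ≫ biprod.inr) _ ?_ ?_ ?_
    · apply biprod.hom_ext' <;> apply biprod.hom_ext <;> simp [← f.map_comp, -Functor.map_comp]
      all_goals first
        | exact biprod.inl_fst
        | (erw [biprod.inl_snd_assoc]; simp)
        | (erw [biprod.inr_snd_assoc]; simp [← f.map_comp, -Functor.map_comp])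
        | (erw [biprod.inr_fst]; simp)
    · apply biprod.hom_ext' <;> simp [← f.map_comp, -Functor.map_comp]
      all_goals first
        | exact biprod.inl_fst
        | (erw [biprod.inl_snd_assoc]; simp)
        | (erw [biprod.inr_snd_assoc]; simp [← f.map_comp, -Functor.map_comp])
        | (erw [biprod.inr_fst]; simp)
    · have ht : f.map biprod.snd ≫ f.map biprod.inr + f.map biprod.fst ≫ f.map biprod.inl =
          𝟙 (f.obj (O.{u} (i : ℤ) ⊞ O (-(i : ℤ)))) := by
        rw [← f.map_comp, ← f.map_comp, ← f.map_add, add_comm, biprod.total, f.map_id]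
      rw [biprod.lift_desc, Category.assoc, ← Category.assoc (f.map biprod.snd), Category.assoc biprod.snd,
        ← Category.assoc (f.map biprod.fst), add_left_comm, ← Preadditive.comp_add, ← Preadditive.add_comp, ht,
        Category.id_comp, biprod.total]

/-- The fibre over `a`. -/
theorem fibre (a : k) :
    letI ι : CohB1.ProjSpaceOver 1 (Spec (CommRingCat.of k)) ⟶ PT k :=
      pullback.lift (pullback.fst _ _)
        (pullback.snd _ _ ≫ Spec.map (CommRingCat.ofHom (Polynomial.evalRingHom a)))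
        (specULiftZIsTerminal.hom_ext _ _)
    (a = 0 → Nonempty ((Scheme.Modules.pullback ι).obj (F i k) ≅
        Twist.twistOver 1 (Spec (CommRingCat.of k)) ((i : ℤ) + 1) ⊞
          Twist.twistOver 1 (Spec (CommRingCat.of k)) (-((i : ℤ) + 1)))) ∧
      (a ≠ 0 → Nonempty ((Scheme.Modules.pullback ι).obj (F i k) ≅
        Twist.twistOver 1 (Spec (CommRingCat.of k)) (i : ℤ) ⊞
          Twist.twistOver 1 (Spec (CommRingCat.of k)) (-(i : ℤ)))) := by
  let ι : CohB1.ProjSpaceOver 1 (Spec (CommRingCat.of k)) ⟶ PT k :=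
    pullback.lift (pullback.fst _ _)
      (pullback.snd _ _ ≫ Spec.map (CommRingCat.ofHom (Polynomial.evalRingHom a)))
      (specULiftZIsTerminal.hom_ext _ _)
  let f := Scheme.Modules.pullback (pt' k)
  let G := Scheme.Modules.pullback ι
  haveI : PreservesBinaryBiproducts G := preservesBinaryBiproducts_of_preservesBiproducts _
  haveI : PreservesBinaryBiproducts (Scheme.Modules.pullback (ProjMor.pz 1 (Spec (CommRingCat.of k)))) :=
    preservesBinaryBiproducts_of_preservesBiproducts _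
  have hι : ι ≫ pt' k = ProjMor.pz 1 (Spec (CommRingCat.of k)) := pullback.lift_fst _ _ _
  let c : f ⋙ G ≅ Scheme.Modules.pullback (ProjMor.pz 1 (Spec (CommRingCat.of k))) :=
    Scheme.Modules.pullbackComp ι (pt' k) ≪≫ Scheme.Modules.pullbackCongr hι
  let A := f.obj (O.{u} (-((i : ℤ) + 1)))
  let B₂ := f.obj (O.{u} (i : ℤ) ⊞ O (-(i : ℤ)))
  have ht : ι.appTop (t k) = ProjUP.toGlobal (CohB1.ProjSpaceOver.toBase 1 _) a := by
    have e : ι ≫ CohB1.ProjSpaceOver.toBase 1 _ = CohB1.ProjSpaceOver.toBase 1 _ ≫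
        Spec.map (CommRingCat.ofHom (Polynomial.evalRingHom a)) := pullback.lift_snd _ _ _
    have : ι.appTop (t k) = ProjUP.toGlobal (ι ≫ CohB1.ProjSpaceOver.toBase 1 _) (Polynomial.X : Polynomial k) := by
      simp [t, ProjUP.toGlobal]
    rw [this, e]
    simp only [ProjUP.toGlobal, Scheme.Hom.comp_appTop]
    have e2 := ConcreteCategory.congr_hom (Scheme.ΓSpecIso_inv_naturality
      (CommRingCat.ofHom (Polynomial.evalRingHom a))) (Polynomial.X : Polynomial k)
    simp only [CommRingCat.hom_comp, RingHom.comp_apply, CommRingCat.hom_ofHom] at e2 ⊢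
    rw [show (Scheme.ΓSpecIso (CommRingCat.of k)).inv a = (Spec.map (CommRingCat.ofHom (Polynomial.evalRingHom a))).appTop
      ((Scheme.ΓSpecIso (CommRingCat.of (Polynomial k))).inv (Polynomial.X : Polynomial k)) by
        rw [← e2]; simp]
  have hg1 : G.map (g i k ≫ biprod.fst) = smulMor (G.obj A) (ι.appTop (t k)) := by
    rw [g, biprod.lift_fst]; exact pullback_map_smulMor ι A (t k)
  constructor
  · rintro rfl
    have hzero : G.map (g i k ≫ biprod.fst) = 0 := by
      rw [hg1, ht, map_zero]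
      exact hom_ext_sections fun V s => by rw [smulMor_app, map_zero, zero_smul]; rfl
    have hg2 : G.map (g i k) ≫ (G.mapBiprod A B₂).hom = biprod.lift 0 (G.map (f.map (h i))) := by
      apply biprod.hom_ext
      · rw [Category.assoc, biprod.lift_fst, G.mapBiprod_hom, biprod.lift_fst, ← G.map_comp, hzero]
      · rw [Category.assoc, biprod.lift_snd, G.mapBiprod_hom, biprod.lift_snd, ← G.map_comp, g, biprod.lift_snd]
    obtain ⟨e1⟩ := nonempty_cokernel_lift_zero (B₁ := G.obj A) (G.map (f.map (h i)))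
    obtain ⟨e2⟩ := nonempty_cokernel_h.{u} i
    exact ⟨PreservesCokernel.iso G (g i k) ≪≫
      cokernel.mapIso (G.map (g i k)) (biprod.lift 0 (G.map (f.map (h i)))) (Iso.refl _) (G.mapBiprod A B₂)
        (by rw [hg2, Iso.refl_hom, Category.id_comp]) ≪≫ e1 ≪≫
      biprod.mapIso (c.app _) ((PreservesCokernel.iso (f ⋙ G) (h i)).symm ≪≫ (f ⋙ G).mapIso e2 ≪≫ c.app _) ≪≫
      biprod.braiding _ _⟩
  · intro ha
    have hu : IsUnit (ι.appTop (t k)) := by rw [ht]; exact (isUnit_iff_ne_zero.mpr ha).map _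
    haveI : IsIso (G.map (g i k ≫ biprod.fst)) := by
      rw [hg1]
      obtain ⟨b, hb⟩ := hu
      refine ⟨⟨smulMor _ (↑b⁻¹), ?_, ?_⟩⟩ <;> rw [← hb, ← smulMor_mul] <;> simp [smulMor_one]
    haveI := isIso_map_complement G (g i k) biprod.fst biprod.snd biprod.inl biprod.inr biprod.inr_snd
      biprod.inr_fst biprod.total
    exact ⟨(asIso (G.map (biprod.inr ≫ cokernel.π (g i k)))).symm ≪≫ c.app _ ≪≫
      (Scheme.Modules.pullback (ProjMor.pz 1 _)).mapBiprod _ _⟩

end JumpBundle
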